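import Groth.Agent.InjHullLib.Noetherian
import Groth.Agent.InjHullLib.Local
import Groth.Agent.GorLib.Socle
import Groth.Agent.KunzLib.Basic
import Groth.Agent.S0342
import Groth.Agent.S0344
import Mathlib.LinearAlgebra.DirectSum.Finsupp
import Mathlib.RingTheory.TensorProduct.Quotient

/-! Power-torsion modules fixed by Frobenius over a regular local ring. -/

set_option autoImplicit false
set_option linter.style.haveILetI false

universe u

open IsLocalRing TensorProduct

namespace Groth.Agent.FrobTorsLib

/-- Torsion of a flat base change. -/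
theorem torsion_baseChange {R S : Type u} [CommRing R] [CommRing S] [Algebra R S] [Module.Flat R S]
    [IsNoetherianRing R] {M : Type u} [AddCommGroup M] [Module R M] (I : Ideal R)
    {M' : Type u} [AddCommGroup M'] [Module S M'] (e : S ⊗[R] M ≃ₗ[S] M') {ι : Type u}
    (b : Submodule.torsionBySet R M (I : Set R) ≃ₗ[R] (ι →₀ R ⧸ I)) :
    Nonempty (Submodule.torsionBySet S M' ((I.map (algebraMap R S) : Ideal S) : Set S) ≃ₗ[S]
      (ι →₀ S ⧸ I.map (algebraMap R S))) := by
  classical
  obtain ⟨n, a, ha⟩ := Submodule.fg_iff_exists_fin_generating_family.1 (IsNoetherian.noetherian I)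
  let T := Submodule.torsionBySet R M (I : Set R)
  let δ : M →ₗ[R] (Fin n → M) := LinearMap.pi fun i => LinearMap.lsmul R M (a i)
  have hex : Function.Exact T.subtype δ := fun x => by
    constructor
    · intro hx
      refine ⟨⟨x, (Submodule.mem_torsionBySet_iff _ _).2 fun r => ?_⟩, rfl⟩
      obtain ⟨r, hr0⟩ := r
      show r • x = 0
      have hr : r ∈ Submodule.span R (Set.range a) := ha.symm ▸ hr0
      clear hr0
      induction hr using Submodule.span_induction with
      | mem y hy => obtain ⟨i, rfl⟩ := hy; exact congrFun hx i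
      | zero => exact zero_smul R x
      | add y z _ _ hy hz => rw [add_smul, hy, hz, add_zero]
      | smul c y _ hy => rw [smul_assoc, hy, smul_zero]
    · rintro ⟨y, rfl⟩
      funext i
      exact (Submodule.mem_torsionBySet_iff _ _).1 y.2 ⟨a i, ha ▸ Submodule.subset_span ⟨i, rfl⟩⟩
  let j : S ⊗[R] T →ₗ[S] S ⊗[R] M := T.subtype.baseChange S
  have hj : Function.Injective j :=
    Module.Flat.lTensor_preserves_injective_linearMap T.subtype T.injective_subtype
  have hex' : Function.Exact (T.subtype.lTensor S) (δ.lTensor S) := Module.Flat.lTensor_exact S hex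
  have hδ : ∀ (z : S ⊗[R] M) (i : Fin n),
      TensorProduct.piRight R S S (fun _ : Fin n => M) (δ.lTensor S z) i = algebraMap R S (a i) • z := by
    intro z i
    induction z using TensorProduct.induction_on with
    | zero => simp
    | tmul s m =>
      rw [LinearMap.lTensor_tmul, TensorProduct.piRight_apply, TensorProduct.piRightHom_tmul, algebraMap_smul]
      exact (TensorProduct.tmul_smul _ _ _)
    | add x y hx hy => rw [map_add, map_add, Pi.add_apply, hx, hy, smul_add]
  let j' : S ⊗[R] T →ₗ[S] M' := e.toLinearMap ∘ₗ j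
  have hrange : LinearMap.range j' = Submodule.torsionBySet S M' ((I.map (algebraMap R S) : Ideal S) : Set S) := by
    ext w
    rw [Submodule.mem_torsionBySet_iff]
    constructor
    · rintro ⟨y, rfl⟩ ⟨r, hr⟩
      show r • e (j y) = 0
      rw [← map_smul]
      refine e.map_eq_zero_iff.2 ?_
      have hz : δ.lTensor S (j y) = 0 := (hex' (j y)).2 ⟨y, rfl⟩
      have hr' : r ∈ Submodule.span S (Set.range fun i => algebraMap R S (a i)) := by
        rw [show (Set.range fun i => algebraMap R S (a i)) = algebraMap R S '' Set.range a from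
          Set.range_comp _ _, ← Ideal.submodule_span_eq.symm, ← Ideal.map_span]
        rw [show Ideal.span (Set.range a) = I from ha]
        exact hr
      clear hr
      induction hr' using Submodule.span_induction with
      | mem x hx => obtain ⟨i, rfl⟩ := hx; rw [← hδ (j y) i, hz, map_zero]; rfl
      | zero => exact zero_smul S _
      | add x y _ _ hx hy => rw [add_smul, hx, hy, add_zero]
      | smul c x _ hx => rw [smul_assoc, hx, smul_zero]
    · intro hw
      obtain ⟨z, rfl⟩ := e.surjective w
      have hz : δ.lTensor S z = 0 := by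
        refine (TensorProduct.piRight R S S (fun _ : Fin n => M)).injective (funext fun i => ?_)
        rw [hδ, map_zero, Pi.zero_apply]
        refine e.injective ?_
        rw [map_smul, map_zero]
        exact hw ⟨_, Ideal.mem_map_of_mem _ (ha ▸ Submodule.subset_span ⟨i, rfl⟩)⟩
      obtain ⟨y, hy⟩ := (hex' z).1 hz
      exact ⟨y, congrArg e hy⟩
  exact ⟨(LinearEquiv.ofEq _ _ hrange.symm).trans <| (LinearEquiv.ofInjective j' (e.injective.comp hj)).symm.trans <|
    (TensorProduct.AlgebraTensorModule.congr (LinearEquiv.refl S S) b).trans <|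
    (TensorProduct.finsuppRight R S S (R ⧸ I) ι).trans <|
    Finsupp.mapRange.linearEquiv (Algebra.TensorProduct.quotIdealMapEquivTensorQuot S I).toLinearEquiv.symm⟩

variable {R : Type u} [CommRing R]

/-- The ring seen as an algebra over itself through Frobenius. -/
def Fr (R : Type u) (_p : ℕ) : Type u := R

variable (p : ℕ) [Fact p.Prime] [CharP R p]

instance : CommRing (Fr R p) := inferInstanceAs (CommRing R)

instance : Algebra R (Fr R p) := ((frobenius R p : R →+* R) : R →+* Fr R p).toAlgebra

/-- One step of the Frobenius tower of torsion submodules. -/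
theorem torsion_step [IsNoetherianRing R] (hflat : (frobenius R p).Flat) {M : Type u} [AddCommGroup M] [Module R M]
    (h : Nonempty ((ModuleCat.extendScalars (frobenius R p)).obj (ModuleCat.of R M) ≅ ModuleCat.of R M))
    (I : Ideal R) {ι : Type u} (b : Submodule.torsionBySet R M (I : Set R) ≃ₗ[R] (ι →₀ R ⧸ I)) :
    Nonempty (Submodule.torsionBySet R M ((I.map (frobenius R p) : Ideal R) : Set R) ≃ₗ[R]
      (ι →₀ R ⧸ I.map (frobenius R p))) := by
  obtain ⟨e⟩ := h
  haveI : Module.Flat R (Fr R p) := hflat
  letI : Module (Fr R p) M := inferInstanceAs (Module R M)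
  let e₀ : Fr R p ⊗[R] M ≃ₗ[Fr R p] M := e.toLinearEquiv
  exact torsion_baseChange (S := Fr R p) I e₀ b

variable [IsRegularLocalRing R] {M : Type u} [AddCommGroup M] [Module R M]

theorem exists_free_torsion
    (h : Nonempty ((ModuleCat.extendScalars (frobenius R p)).obj (ModuleCat.of R M) ≅ ModuleCat.of R M))
    {ι : Type u} (b : Submodule.torsionBySet R M ((maximalIdeal R : Ideal R) : Set R) ≃ₗ[R] (ι →₀ R ⧸ maximalIdeal R))
    (e : ℕ) :
    ∃ J : Ideal R, J = (maximalIdeal R).map (iterateFrobenius R p e) ∧ J ≤ maximalIdeal R ^ (p ^ e) ∧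
      Nonempty (Submodule.torsionBySet R M (J : Set R) ≃ₗ[R] (ι →₀ R ⧸ J)) := by
  induction e with
  | zero =>
    refine ⟨maximalIdeal R, ?_, by simp, ⟨b⟩⟩
    rw [show iterateFrobenius R p 0 = RingHom.id R from RingHom.ext fun x => iterateFrobenius_zero_apply R p x,
      Ideal.map_id]
  | succ e ih =>
    obtain ⟨J, hJ, hle, ⟨bJ⟩⟩ := ih
    refine ⟨J.map (frobenius R p), ?_, ?_, torsion_step p (KunzLib.flat_of_isRegularLocalRing p) h J bJ⟩
    · rw [hJ, Ideal.map_map]
      congr 1
      refine RingHom.ext fun x => ?_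
      show frobenius R p (iterateFrobenius R p e x) = _
      rw [frobenius_def, iterateFrobenius_def, iterateFrobenius_def, ← pow_mul, ← pow_succ]
    · refine (Ideal.map_mono hle).trans ?_
      rw [Ideal.map_pow, pow_succ', pow_mul]
      refine Ideal.pow_right_mono (Ideal.map_le_iff_le_comap.2 fun x hx => ?_) _
      exact Ideal.pow_mem_pow hx p

theorem socCyclic_quotient (e : ℕ) (J : Ideal R) (hJ : J = (maximalIdeal R).map (iterateFrobenius R p e)) :
    Module.Injective (R ⧸ J) (R ⧸ J) := by
  subst hJ
  set φ := iterateFrobenius R p e with hφ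
  have hloc : IsLocalHom φ := ⟨fun r hr => by
    rw [hφ, iterateFrobenius_def] at hr
    exact (isUnit_pow_iff (pow_ne_zero e (Fact.out : p.Prime).ne_zero)).1 hr⟩
  have hflat : φ.Flat := KunzLib.flat_iterateFrobenius (p := p) (KunzLib.flat_of_isRegularLocalRing p) e
  haveI := S0342.result R
  have hgor := ((@S0344.result R _ _ _ R _ _ _ φ.toAlgebra hloc hflat).1 inferInstance).2
  have hpow : maximalIdeal R ^ ((maximalIdeal R).spanFinrank * p ^ e + 1) ≤ (maximalIdeal R).map φ := by
    obtain ⟨x, hx⟩ := KunzLib.exists_minimal_generators R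
    refine le_trans (le_trans (le_of_eq (by rw [hx])) (KunzLib.span_pow_le x (p ^ e))) ?_
    refine Ideal.span_le.2 (Set.range_subset_iff.2 fun i => ?_)
    have := Ideal.mem_map_of_mem φ (hx.le (Ideal.subset_span ⟨i, rfl⟩))
    rwa [hφ, iterateFrobenius_def] at this
  haveI : Nontrivial (R ⧸ (maximalIdeal R).map φ) := Ideal.Quotient.nontrivial_iff.2
    (ne_top_of_le_ne_top (maximalIdeal.isMaximal R).ne_top (Ideal.map_le_iff_le_comap.2 fun x hx => by
      rw [Ideal.mem_comap, hφ, iterateFrobenius_def]
      exact Ideal.pow_mem_of_mem _ hx _ (pow_pos (Fact.out : p.Prime).pos _)))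
  haveI : IsLocalRing (R ⧸ (maximalIdeal R).map φ) :=
    IsLocalRing.of_surjective' (Ideal.Quotient.mk _) Ideal.Quotient.mk_surjective
  haveI : IsArtinianRing (R ⧸ (maximalIdeal R).map φ) := by
    refine (IsLocalRing.quotient_artinian_of_mem_minimalPrimes_of_isLocalRing _ ?_)
    refine ⟨⟨inferInstance, Ideal.map_le_iff_le_comap.2 fun x hx => by
      rw [Ideal.mem_comap, hφ, iterateFrobenius_def]
      exact Ideal.pow_mem_of_mem _ hx _ (pow_pos (Fact.out : p.Prime).pos _)⟩, fun q hq _ => ?_⟩
    exact fun x hx => hq.1.mem_of_pow_mem _ (hq.2 (hpow (Ideal.pow_mem_pow hx _)))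
  exact GorLib.injective_of_socCyclic (GorLib.gorenstein_iff_socCyclic.1 hgor)

end Groth.Agent.FrobTorsLib
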